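import Groth.Agent.DiagQC.Main

/-!
# Quasi-compactness of the diagonal: reduction to affine noetherian charts
-/

set_option autoImplicit false
set_option backward.isDefEq.respectTransparency false
set_option backward.isDefEq.respectTransparency.types false
universe u

noncomputable section

namespace Groth.Agent.DiagQC

open CategoryTheory CategoryTheory.Limits AlgebraicGeometry Opposite Groth.Agent.FibCatRep TopologicalSpace
  Groth.Agent.FibCat2Misc Groth.Agent.AlgSpLib Groth.Agent.StkBasic Groth.Agent.AlgStLib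
open _root_.AlgSp _root_.AlgSt

variable {S : Scheme.{u}} {𝒳 : AlgSt.Cat S}

/-- lifting a pair of objects to a product of charts around a point -/
theorem exists_chart_pair (h𝒳 : IsAlgStack Scheme.fppfPrecoverage 𝒳) {V : Over S}
    (f : FibCat.overCat V ⥤ᵇ 𝒳) (hf₁ : LocQ (LocP @Flat) f)
    (hf₂ : LocQ (LocP @LocallyOfFinitePresentation) f) (hf₃ : AlgSt.IsSurjective f) {Z : Over S}
    (z : FibCat.overCat Z ⥤ᵇ FibCat.fp (FibCat.toSelf 𝒳) (FibCat.toSelf 𝒳)) (t : ↥Z.left) :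
    ∃ (W : Over S) (γ : W ⟶ Z), Flat γ.left ∧ LocallyOfFinitePresentation γ.left ∧ t ∈ Set.range γ.left ∧
      ∃ a b : W ⟶ V, Nonempty (BasedFunctor.comp (AlgSt.overMap γ) z ≅
        pairFun (BasedFunctor.comp (AlgSt.overMap a) f) (BasedFunctor.comp (AlgSt.overMap b) f)) := by
  have hV := isAlgStack_overCat V
  obtain ⟨W₁, γ₁, _, _, ⟨t₁, ht₁⟩, a', ⟨i₁⟩⟩ :=
    exists_lift_at h𝒳 hV f hf₁ hf₂ (BasedFunctor.comp z (FibCat.fpFst _ _)) t (hf₃ _)
  obtain ⟨W₂, γ₂, _, _, ⟨t₂, ht₂⟩, b', ⟨i₂⟩⟩ :=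
    exists_lift_at h𝒳 hV f hf₁ hf₂ (BasedFunctor.comp (AlgSt.overMap γ₁) (BasedFunctor.comp z (FibCat.fpSnd _ _)))
      t₁ (hf₃ _)
  obtain ⟨a, ⟨ja⟩⟩ := exists_overMap_iso a'
  obtain ⟨b, ⟨jb⟩⟩ := exists_overMap_iso b'
  refine ⟨W₂, γ₂ ≫ γ₁, by rw [Over.comp_left]; infer_instance, by rw [Over.comp_left]; infer_instance,
    ⟨t₂, by rw [Over.comp_left, Scheme.Hom.comp_apply, ht₂, ht₁]⟩, γ₂ ≫ a, b, ⟨?_⟩⟩
  refine GerbeMor.fpExtSelf ?_ ?_
  · exact (post _ (BasedFunctor.comp z (FibCat.fpFst _ _))).mapIso (AlgStLib.overMapComp γ₂ γ₁).symm ≪≫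
      (Stk.restr (AlgSt.overMap γ₂) _).mapIso (i₁.symm ≪≫ (post _ f).mapIso ja) ≪≫
      (post _ f).mapIso (AlgStLib.overMapComp γ₂ a)
  · exact (post _ (BasedFunctor.comp z (FibCat.fpSnd _ _))).mapIso (AlgStLib.overMapComp γ₂ γ₁).symm ≪≫
      i₂.symm ≪≫ (post _ f).mapIso jb

/-- quasi-compactness of the diagonal -/
theorem repWith_qc_diag (h𝒳 : IsAlgStack Scheme.fppfPrecoverage 𝒳) [IsLocallyNoetherian S]
    (hlfp : ∀ (U : Over S) (x : FibCat.overCat U ⥤ᵇ 𝒳),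
      AlgSt.RepByAlgSpWith (AlgSp.LocP @Smooth) x → LocallyOfFinitePresentation U.hom)
    (hi : ∀ (U : Over S), IsAffine U.left → ∀ (x : FibCat.overCat U ⥤ᵇ 𝒳),
      ∃ (F : AlgSp.Space S) (e : AlgSt.ofSp F.obj ⥤ᵇ
          FibCat.fp (FibCat.fpLift x x (Iso.refl _)) (FibCat.diag (FibCat.toSelf 𝒳))),
        FibCat.IsEquivOver e ∧
          AlgSp.IsQuasiCompactMor (AlgSt.spMapOfOver (BasedFunctor.comp e (FibCat.fpFst _ _))))
    (hii : ∀ (U : Over S), IsAffine U.left → IsIntegral U.left → ∀ (x y : FibCat.overCat U ⥤ᵇ 𝒳)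
      (D : Set ↥U.left), Dense D →
      (∀ t ∈ D, ∃ (L : Type u) (_ : Field L) (g : Spec (CommRingCat.of L) ⟶ U.left), Set.range g.base = {t} ∧
        Nonempty (BasedFunctor.comp (AlgSt.overMap (Over.homMk g rfl : Over.mk (g ≫ U.hom) ⟶ U)) x ≅
          BasedFunctor.comp (AlgSt.overMap (Over.homMk g rfl : Over.mk (g ≫ U.hom) ⟶ U)) y)) →
      ∃ V : U.left.Opens, Dense (V : Set ↥U.left) ∧
        Nonempty (BasedFunctor.comp (AlgSt.overMap (Over.homMk V.ι rfl : Over.mk (V.ι ≫ U.hom) ⟶ U)) x ≅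
          BasedFunctor.comp (AlgSt.overMap (Over.homMk V.ι rfl : Over.mk (V.ι ≫ U.hom) ⟶ U)) y)) :
    AlgSt.RepByAlgSpWith AlgSp.IsQuasiCompactMor (FibCat.diag (FibCat.toSelf 𝒳)) := by
  refine repWith_qc_of_isQuasiCompactMor h𝒳.diag
    (isQuasiCompactMor_of_affine h𝒳 (isAlgStack_prod h𝒳) fun Z z hZ => ?_)
  obtain ⟨V, y, hy, hy'⟩ := exists_atlas_sp h𝒳
  let f := BasedFunctor.comp (AlgSt.ofOverCat V) y
  have hys : RepByAlgSpWith (LocP @Smooth) f := (repWith_ofOverCat_iff _ y).2 hy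
  have hfsurj : RepByAlgSpWith AlgSp.IsSurjectiveMor f := (repWith_ofOverCat_iff _ y).2 hy'
  have hVo := isAlgStack_overCat V
  have hf₁ : LocQ (LocP @Flat) f :=
    locQ_of_repWith st_flat cls_flat.bc cls_flat.loc hVo h𝒳 (repWith_flat_of_smooth hys)
  have hf₂ : LocQ (LocP @LocallyOfFinitePresentation) f :=
    locQ_of_repWith st_lfp cls_lfp.bc cls_lfp.loc hVo h𝒳 (repWith_lfp_of_smooth hys)
  have hf₃ : AlgSt.IsSurjective f := isSurjective_of_repWith hVo.isStack.1 h𝒳.isStack.1 hfsurj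
  have : LocallyOfFinitePresentation V.hom := hlfp V f hys
  let P : Over S := Over.mk (pullback.fst V.hom V.hom ≫ V.hom)
  have : IsLocallyNoetherian P.left :=
    LocallyOfFiniteType.isLocallyNoetherian (pullback.fst V.hom V.hom ≫ V.hom)
  let p₁ : P ⟶ V := Over.homMk (pullback.fst V.hom V.hom) rfl
  let p₂ : P ⟶ V := Over.homMk (pullback.snd V.hom V.hom) pullback.condition.symm
  let w := pairFun (BasedFunctor.comp (AlgSt.overMap p₁) f) (BasedFunctor.comp (AlgSt.overMap p₂) f)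
  -- local charts
  have key : ∀ t : ↥Z.left, ∃ (T : Over S) (γ : T ⟶ Z), IsAffine T.left ∧ IsOpen (Set.range γ.left) ∧
      t ∈ Set.range γ.left ∧ AlgSt.IsQuasiCompact (FibCat.fp (BasedFunctor.comp (AlgSt.overMap γ) z)
        (FibCat.diag (FibCat.toSelf 𝒳))) := fun t => by
    obtain ⟨W, γ, _, _, ⟨s, hs⟩, a, b, ⟨i⟩⟩ := exists_chart_pair h𝒳 f hf₁ hf₂ hf₃ z t
    let c : W ⟶ P := Over.homMk (pullback.lift a.left b.left (by rw [Over.w, Over.w]))
      (by show pullback.lift _ _ _ ≫ pullback.fst _ _ ≫ V.hom = W.hom; rw [pullback.lift_fst_assoc, Over.w])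
    obtain ⟨O, hO, hsO, -⟩ := exists_isAffineOpen_mem_and_subset (show c.left s ∈ (⊤ : P.left.Opens) from trivial)
    obtain ⟨T, hT, hsT, hTO⟩ := exists_isAffineOpen_mem_and_subset (show s ∈ c.left ⁻¹ᵁ O from hsO)
    let T' : Over S := Over.mk (T.ι ≫ W.hom)
    let ιT : T' ⟶ W := Over.homMk T.ι rfl
    let O' : Over S := Over.mk (O.ι ≫ P.hom)
    let ιO : O' ⟶ P := Over.homMk O.ι rfl
    have hr : Set.range (T.ι ≫ c.left) ⊆ Set.range O.ι := by
      rintro _ ⟨v, rfl⟩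
      rw [Scheme.Opens.range_ι]
      exact hTO v.2
    let k : T' ⟶ O' := Over.homMk (IsOpenImmersion.lift O.ι (T.ι ≫ c.left) hr) (by
      show _ ≫ O.ι ≫ P.hom = T.ι ≫ W.hom
      rw [IsOpenImmersion.lift_fac_assoc, Category.assoc, Over.w c])
    have e : ιT ≫ c = k ≫ ιO := Over.OverMorphism.ext (IsOpenImmersion.lift_fac _ _ _).symm
    have : IsAffine O'.left := hO
    have : IsAffine T'.left := hT
    have : IsLocallyNoetherian O'.left := LocallyOfFiniteType.isLocallyNoetherian O.ι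
    have ea : c ≫ p₁ = a := Over.OverMorphism.ext (pullback.lift_fst _ _ _)
    have eb : c ≫ p₂ = b := Over.OverMorphism.ext (pullback.lift_snd _ _ _)
    have : Flat (T.ι ≫ γ.left) := inferInstance
    have : LocallyOfFinitePresentation (T.ι ≫ γ.left) := inferInstance
    refine ⟨T', ιT ≫ γ, hT, (T.ι ≫ γ.left).isOpenMap.isOpen_range, ⟨⟨s, hsT⟩, hs⟩, ?_⟩
    refine isQuasiCompact_fp_congr (isAlgStack_prod h𝒳) (isAlgStack_overCat T') h𝒳 ?_
      (isQuasiCompact_isom_noetherian h𝒳 hi hii (BasedFunctor.comp (AlgSt.overMap ιO) w) k)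
    let i' : BasedFunctor.comp (AlgSt.overMap γ) z ≅ BasedFunctor.comp (AlgSt.overMap c) w :=
      i ≪≫ GerbeMor.fpExtSelf
        ((post _ f).mapIso (AlgStLib.overMapComp c p₁ ≪≫ eqToIso (congrArg AlgSt.overMap ea)).symm)
        ((post _ f).mapIso (AlgStLib.overMapComp c p₂ ≪≫ eqToIso (congrArg AlgSt.overMap eb)).symm)
    exact (post _ w).mapIso (AlgStLib.overMapComp k ιO ≪≫ eqToIso (congrArg AlgSt.overMap e.symm) ≪≫
        (AlgStLib.overMapComp ιT c).symm) ≪≫ (Stk.restr (AlgSt.overMap ιT) _).mapIso i'.symm ≪≫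
      (post _ z).mapIso (AlgStLib.overMapComp ιT γ)
  choose T γ hT hopen hmem hqc using key
  obtain ⟨F, hF⟩ := isCompact_univ.elim_finite_subcover (fun t : ↥Z.left => Set.range (γ t).left) hopen
    fun t _ => Set.mem_iUnion.2 ⟨t, hmem t⟩
  have h𝒵 := isAlgStack_isom h𝒳 z
  rw [isQuasiCompact_iff_compactSpace h𝒵]
  choose L hL₁ hL₂ using fun t => exists_points_of_restrict h𝒳 (γ t) z
  refine ⟨?_⟩
  have : (Set.univ : Set (AlgSt.Points (FibCat.fp z (FibCat.diag (FibCat.toSelf 𝒳))))) =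
      ⋃ t ∈ F, Set.range (AlgSt.Points.map (L t)) := by
    refine (Set.eq_univ_of_forall fun p => ?_).symm
    obtain ⟨s, hs⟩ := exists_ofChart_id (AlgSt.Points.map (FibCat.fpFst z _) p)
    obtain ⟨t, ht, v, hv⟩ : ∃ t ∈ F, ∃ v, (γ t).left v = s := by simpa using hF (Set.mem_univ s)
    exact Set.mem_iUnion₂.2 ⟨t, ht, hL₂ t p v (hv.symm ▸ hs.symm)⟩
  rw [this]
  exact F.isCompact_biUnion fun t _ => by
    have := (isQuasiCompact_iff_compactSpace (isAlgStack_isom h𝒳 _)).1 (hqc t)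
    exact isCompact_range (continuous_map h𝒵 _)

end Groth.Agent.DiagQC
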