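import Groth.Agent.DiagQC.Pairs
import Groth.Agent.DenseLiftQC.Scheme
import Groth.Agent.AlgStLib.DiagProps
import Groth.Agent.AlgStLib.LiftFamily

/-!
# Quasi-compactness of the diagonal from generic isomorphisms
-/

set_option autoImplicit false
set_option backward.isDefEq.respectTransparency false
set_option backward.isDefEq.respectTransparency.types false
universe u

noncomputable section

namespace Groth.Agent.DiagQC

open CategoryTheory CategoryTheory.Limits AlgebraicGeometry Opposite Groth.Agent.FibCatRep TopologicalSpace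
  Groth.Agent.FibCat2Misc Groth.Agent.AlgSpLib Groth.Agent.StkBasic Groth.Agent.AlgStLib
open _root_.AlgSp _root_.AlgSt

variable {S : Scheme.{u}} {𝒳 : AlgSt.Cat S}

local notation "AS" => IsAlgStack Scheme.fppfPrecoverage

variable (h𝒳 : AS 𝒳)
  (hi : ∀ (U : Over S), IsAffine U.left → ∀ (x : FibCat.overCat U ⥤ᵇ 𝒳),
    ∃ (F : AlgSp.Space S) (e : AlgSt.ofSp F.obj ⥤ᵇ FibCat.fp (FibCat.fpLift x x (Iso.refl _)) (FibCat.diag (FibCat.toSelf 𝒳))),
      FibCat.IsEquivOver e ∧
        AlgSp.IsQuasiCompactMor (AlgSt.spMapOfOver (BasedFunctor.comp e (FibCat.fpFst _ _))))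
  (hii : ∀ (U : Over S), IsAffine U.left → IsIntegral U.left → ∀ (x y : FibCat.overCat U ⥤ᵇ 𝒳)
    (D : Set ↥U.left), Dense D →
    (∀ t ∈ D, ∃ (L : Type u) (_ : Field L) (g : Spec (CommRingCat.of L) ⟶ U.left), Set.range g.base = {t} ∧
      Nonempty (BasedFunctor.comp (AlgSt.overMap (Over.homMk g rfl : Over.mk (g ≫ U.hom) ⟶ U)) x ≅
        BasedFunctor.comp (AlgSt.overMap (Over.homMk g rfl : Over.mk (g ≫ U.hom) ⟶ U)) y)) →
    ∃ V : U.left.Opens, Dense (V : Set ↥U.left) ∧
      Nonempty (BasedFunctor.comp (AlgSt.overMap (Over.homMk V.ι rfl : Over.mk (V.ι ≫ U.hom) ⟶ U)) x ≅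
        BasedFunctor.comp (AlgSt.overMap (Over.homMk V.ι rfl : Over.mk (V.ι ≫ U.hom) ⟶ U)) y))

include h𝒳 hi hii

theorem isQuasiCompact_isom_noetherian {W Z : Over S} [IsAffine W.left] [IsLocallyNoetherian W.left]
    [IsAffine Z.left] (w : FibCat.overCat W ⥤ᵇ FibCat.fp (FibCat.toSelf 𝒳) (FibCat.toSelf 𝒳)) (k : Z ⟶ W) :
    AlgSt.IsQuasiCompact (FibCat.fp (BasedFunctor.comp (AlgSt.overMap k) w) (FibCat.diag (FibCat.toSelf 𝒳))) := by
  let z := BasedFunctor.comp (AlgSt.overMap k) w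
  have h𝒵 := isAlgStack_isom h𝒳 z
  rw [isQuasiCompact_iff_compactSpace h𝒵]
  have : IsNoetherian W.left := {}
  let E : Set ↥W.left → Set (AlgSt.Points (FibCat.fp z (FibCat.diag (FibCat.toSelf 𝒳)))) := fun T =>
    {p | ∃ s : ↥Z.left, AlgSt.Points.map (FibCat.fpFst z (FibCat.diag (FibCat.toSelf 𝒳))) p = AlgSt.Points.ofChart (BasedFunctor.id (FibCat.overCat Z)) s ∧ k.left s ∈ T}
  suffices H : ∀ T : Closeds ↥W.left, IsCompact (E T) by
    refine ⟨?_⟩
    have h1 := H ⊤
    convert h1 using 1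
    refine (Set.eq_univ_of_forall fun p => ?_).symm
    obtain ⟨s, hs⟩ := exists_ofChart_id (AlgSt.Points.map (FibCat.fpFst z (FibCat.diag (FibCat.toSelf 𝒳))) p)
    exact ⟨s, hs.symm, trivial⟩
  intro T
  induction T using WellFoundedLT.induction with
  | ind T IH =>
    by_cases hne : (T : Set ↥W.left).Nonempty
    swap
    · rw [Set.not_nonempty_iff_eq_empty] at hne
      convert isCompact_empty
      exact Set.eq_empty_of_forall_notMem fun p ⟨s, _, hs⟩ => hne.le hs
    by_cases hirr : IsPreirreducible (T : Set ↥W.left)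
    swap
    · simp only [isPreirreducible_iff_isClosed_union_isClosed, not_forall, not_or] at hirr
      obtain ⟨A, B, hA, hB, hAB, hTA, hTB⟩ := hirr
      have hA' : (⟨_, T.isClosed.inter hA⟩ : Closeds ↥W.left) < T :=
        lt_of_le_of_ne (fun x hx => hx.1) fun e => hTA fun x hx =>
          ((congrArg (fun S : Closeds ↥W.left => (S : Set ↥W.left)) e).ge hx).2
      have hB' : (⟨_, T.isClosed.inter hB⟩ : Closeds ↥W.left) < T :=
        lt_of_le_of_ne (fun x hx => hx.1) fun e => hTB fun x hx =>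
          ((congrArg (fun S : Closeds ↥W.left => (S : Set ↥W.left)) e).ge hx).2
      convert (IH _ hA').union (IH _ hB')
      ext p
      constructor
      · rintro ⟨s, hs, hsT⟩
        exact (hAB hsT).elim (fun h => Or.inl ⟨s, hs, hsT, h⟩) (fun h => Or.inr ⟨s, hs, hsT, h⟩)
      · rintro (⟨s, hs, hsT⟩ | ⟨s, hs, hsT⟩) <;> exact ⟨s, hs, hsT.1⟩
    let I := Scheme.IdealSheafData.vanishingIdeal T
    let T' := I.subscheme
    have hrange : Set.range I.subschemeι = (T : Set ↥W.left) := by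
      rw [Scheme.IdealSheafData.range_subschemeι, Scheme.IdealSheafData.coe_support_vanishingIdeal]
    have : IsAffine T' := isAffine_of_isAffineHom I.subschemeι
    have : IrreducibleSpace ↥T' := by
      have h1 : IsIrreducible (Set.univ : Set ↥T') := by
        refine ⟨?_, ?_⟩
        · obtain ⟨x, hx⟩ := hne
          obtain ⟨y, -⟩ := hrange.ge hx
          exact ⟨y, trivial⟩
        · intro u v hu hv ⟨x, _, hxu⟩ ⟨y, _, hyv⟩
          obtain ⟨u', hu', rfl⟩ := I.subschemeι.isEmbedding.isInducing.isOpen_iff.1 hu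
          obtain ⟨v', hv', rfl⟩ := I.subschemeι.isEmbedding.isInducing.isOpen_iff.1 hv
          obtain ⟨a, ha, hau, hav⟩ := hirr u' v' hu' hv' ⟨_, hrange.le ⟨x, rfl⟩, hxu⟩ ⟨_, hrange.le ⟨y, rfl⟩, hyv⟩
          obtain ⟨a', rfl⟩ := hrange.ge ha
          exact ⟨a', trivial, hau, hav⟩
      exact { toPreirreducibleSpace := ⟨h1.2⟩, toNonempty := ⟨h1.1.some⟩ }
    have : IsReduced T' := DvrDom.isReduced_vanishingIdeal_subscheme T
    have : IsIntegral T' := isIntegral_of_irreducibleSpace_of_isReduced T'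
    let U : Over S := Over.mk (I.subschemeι ≫ W.hom)
    let i : U ⟶ W := Over.homMk I.subschemeι rfl
    let x := BasedFunctor.comp (AlgSt.overMap i) (BasedFunctor.comp w (FibCat.fpFst _ _))
    let y := BasedFunctor.comp (AlgSt.overMap i) (BasedFunctor.comp w (FibCat.fpSnd _ _))
    let D : Set ↥T' := {t | ∃ p s, AlgSt.Points.map (FibCat.fpFst z (FibCat.diag (FibCat.toSelf 𝒳))) p = AlgSt.Points.ofChart (BasedFunctor.id (FibCat.overCat Z)) s ∧ k.left s = I.subschemeι t}
    have hic : IsClosedMap I.subschemeι := I.subschemeι.isClosedEmbedding.isClosedMap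
    by_cases hD : Dense D
    · obtain ⟨V, hVd, ⟨μ⟩⟩ := hii U ‹IsAffine T'› ‹IsIntegral T'› x y D hD fun t ⟨p, s, hp, hst⟩ => by
        obtain ⟨V, γ, r, hγ, ⟨ν⟩⟩ := exists_iso_of_point h𝒳 z p
        have hs : γ.left r = s := ofChart_id_injective (hγ.symm.trans hp)
        let q : Spec (V.left.residueField r) ⟶ V.left := V.left.fromSpecResidueField r
        have hq : ∀ o, q o = r := fun o => V.left.fromSpecResidueField_apply r o
        have hqs : ∀ o, (q ≫ γ.left ≫ k.left) o = I.subschemeι t := fun o =>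
          (congrArg k.left ((congrArg γ.left (hq o)).trans hs)).trans hst
        have hgo : ∀ (g : Spec (CommRingCat.of (V.left.residueField r)) ⟶ T'),
            g ≫ I.subschemeι = q ≫ γ.left ≫ k.left → ∀ o, g o = t := fun g hg o =>
          I.subschemeι.isClosedEmbedding.injective (((congrArg (fun m => m o) hg :
            (g ≫ I.subschemeι) o = (q ≫ γ.left ≫ k.left) o)).trans (hqs o))
        obtain ⟨g, hg⟩ := DenseLiftQC.exists_lift_field I.subschemeι (K := V.left.residueField r)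
          (q ≫ γ.left ≫ k.left) t (hqs _).symm
        refine ⟨V.left.residueField r, inferInstance, g, ?_, ⟨?_⟩⟩
        · refine Set.eq_singleton_iff_unique_mem.2 ⟨⟨IsLocalRing.closedPoint (V.left.residueField r), hgo g hg _⟩, ?_⟩
          rintro _ ⟨o, rfl⟩
          exact hgo g hg o
        let L : Over S := Over.mk (g ≫ U.hom)
        let g' : L ⟶ U := Over.homMk g rfl
        let q' : L ⟶ V := Over.homMk q (by
          show q ≫ V.hom = g ≫ I.subschemeι ≫ W.hom
          rw [reassoc_of% hg, Over.w k, Over.w γ])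
        have e : g' ≫ i = (q' ≫ γ) ≫ k := Over.OverMorphism.ext (by
          show g ≫ I.subschemeι = (q ≫ γ.left) ≫ k.left
          rw [hg, Category.assoc])
        let σ : ∀ (f : FibCat.fp (FibCat.toSelf 𝒳) (FibCat.toSelf 𝒳) ⥤ᵇ 𝒳),
            BasedFunctor.comp (AlgSt.overMap g') (BasedFunctor.comp (AlgSt.overMap i) (BasedFunctor.comp w f)) ≅
              BasedFunctor.comp (AlgSt.overMap q') (BasedFunctor.comp (AlgSt.overMap γ) (BasedFunctor.comp z f)) :=
          fun f => (post _ (BasedFunctor.comp w f)).mapIso (AlgStLib.overMapComp g' i ≪≫ eqToIso (congrArg AlgSt.overMap e) ≪≫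
            ((post _ (AlgSt.overMap k)).mapIso (AlgStLib.overMapComp q' γ) ≪≫ AlgStLib.overMapComp (q' ≫ γ) k).symm)
        exact σ (FibCat.fpFst _ _) ≪≫ (Stk.restr (AlgSt.overMap q') _).mapIso ν ≪≫ (σ (FibCat.fpSnd _ _)).symm
      obtain ⟨O, hO, hOV⟩ := I.subschemeι.isEmbedding.isInducing.isOpen_iff.1 V.isOpen
      have : Nonempty ↥U.left := inferInstanceAs (Nonempty ↥T')
      obtain ⟨t, ht⟩ := hVd.nonempty
      obtain ⟨W₁, hW₁, htW₁, hW₁O⟩ := exists_isAffineOpen_mem_and_subset (U := ⟨O, hO⟩)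
        (show I.subschemeι t ∈ O from hOV.ge ht)
      -- the open part
      let Z₁ : Over S := Over.mk (pullback.snd (pullback.fst k.left W₁.ι ≫ k.left) I.subschemeι ≫ U.hom)
      have hw₁ : pullback.fst (pullback.fst k.left W₁.ι ≫ k.left) I.subschemeι ≫ pullback.fst k.left W₁.ι ≫ k.left =
          pullback.snd (pullback.fst k.left W₁.ι ≫ k.left) I.subschemeι ≫ I.subschemeι := pullback.condition
      let c : Z₁ ⟶ Z := Over.homMk
        (pullback.fst (pullback.fst k.left W₁.ι ≫ k.left) I.subschemeι ≫ pullback.fst k.left W₁.ι) (by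
          show _ = pullback.snd _ _ ≫ I.subschemeι ≫ W.hom
          rw [← reassoc_of% hw₁, Over.w k]; simp)
      have hV : Set.range (pullback.snd (pullback.fst k.left W₁.ι ≫ k.left) I.subschemeι) ⊆ Set.range V.ι := by
        rintro _ ⟨o, rfl⟩
        rw [Scheme.Opens.range_ι]
        refine hOV.le (hW₁O ?_)
        show I.subschemeι _ ∈ W₁
        rw [← Scheme.Hom.comp_apply, ← hw₁, Scheme.Hom.comp_apply, ← SetLike.mem_coe, ← Scheme.Opens.range_ι W₁]
        refine ⟨pullback.snd k.left W₁.ι (pullback.fst (pullback.fst k.left W₁.ι ≫ k.left) I.subschemeι o), ?_⟩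
        rw [← Scheme.Hom.comp_apply, ← pullback.condition]
      let v : Z₁ ⟶ Over.mk (V.ι ≫ U.hom) := Over.homMk (IsOpenImmersion.lift V.ι _ hV) (by
        show IsOpenImmersion.lift V.ι _ hV ≫ V.ι ≫ U.hom = _
        rw [IsOpenImmersion.lift_fac_assoc]; rfl)
      have : IsAffine W₁.toScheme := hW₁
      have : IsAffine Z₁.left := inferInstanceAs (IsAffine (pullback _ _))
      let ι' : Over.mk (V.ι ≫ U.hom) ⟶ U := Over.homMk V.ι rfl
      have e : c ≫ k = v ≫ ι' ≫ i := Over.OverMorphism.ext (by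
        show (_ ≫ _) ≫ k.left = IsOpenImmersion.lift V.ι _ hV ≫ V.ι ≫ I.subschemeι
        rw [IsOpenImmersion.lift_fac_assoc, Category.assoc, hw₁])
      obtain ⟨L, hL₁, hL₂⟩ := exists_points_of_restrict h𝒳 c z
      have hqc : AlgSt.IsQuasiCompact (FibCat.fp (BasedFunctor.comp (AlgSt.overMap c) z) (FibCat.diag (FibCat.toSelf 𝒳))) := by
        refine isQuasiCompact_isom_of_iso h𝒳 hi _ ?_
        let σ : ∀ (f : FibCat.fp (FibCat.toSelf 𝒳) (FibCat.toSelf 𝒳) ⥤ᵇ 𝒳),
            BasedFunctor.comp (BasedFunctor.comp (AlgSt.overMap c) z) f ≅ BasedFunctor.comp (AlgSt.overMap v)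
              (BasedFunctor.comp (AlgSt.overMap ι') (BasedFunctor.comp (AlgSt.overMap i) (BasedFunctor.comp w f))) :=
          fun f => (post _ (BasedFunctor.comp w f)).mapIso (AlgStLib.overMapComp c k ≪≫ eqToIso (congrArg AlgSt.overMap e) ≪≫
            ((Stk.restr (AlgSt.overMap v) _).mapIso (AlgStLib.overMapComp ι' i) ≪≫ AlgStLib.overMapComp v (ι' ≫ i)).symm)
        exact σ (FibCat.fpFst _ _) ≪≫ (Stk.restr (AlgSt.overMap v) _).mapIso μ ≪≫ (σ (FibCat.fpSnd _ _)).symm
      have := (isQuasiCompact_iff_compactSpace (isAlgStack_isom h𝒳 _)).1 hqc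
      have hlt : (⟨_, T.isClosed.inter W₁.isOpen.isClosed_compl⟩ : Closeds ↥W.left) < T :=
        lt_of_le_of_ne (fun x hx => hx.1) fun e' =>
          ((congrArg (fun S : Closeds ↥W.left => (S : Set ↥W.left)) e').ge (hrange.le ⟨t, rfl⟩)).2 htW₁
      convert (IH _ hlt).union (isCompact_range (continuous_map h𝒵 L))
      ext p
      constructor
      · rintro ⟨s, hs, hsT⟩
        by_cases hsW : k.left s ∈ W₁
        · obtain ⟨t', ht'⟩ := hrange.ge hsT
          obtain ⟨a, ha, -⟩ := Scheme.Pullback.exists_preimage_pullback (f := k.left) (g := W₁.ι) s ⟨_, hsW⟩ rfl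
          obtain ⟨b, hb, -⟩ := Scheme.Pullback.exists_preimage_pullback
            (f := pullback.fst k.left W₁.ι ≫ k.left) (g := I.subschemeι) a t'
            (by rw [Scheme.Hom.comp_apply, ha, ht'])
          exact Or.inr (hL₂ p b (hs.trans (congrArg (AlgSt.Points.ofChart (BasedFunctor.id (FibCat.overCat Z))) (by
            show s = (pullback.fst _ _ ≫ pullback.fst k.left W₁.ι) b
            rw [Scheme.Hom.comp_apply, hb, ha]))))
        · exact Or.inl ⟨s, hs, hsT, hsW⟩
      · rintro (⟨s, hs, hsT⟩ | ⟨q, rfl⟩)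
        · exact ⟨s, hs, hsT.1⟩
        · obtain ⟨o, ho⟩ := hL₁ q
          refine ⟨_, ho, hrange.le ⟨pullback.snd (pullback.fst k.left W₁.ι ≫ k.left) I.subschemeι o, ?_⟩⟩
          rw [← Scheme.Hom.comp_apply, ← hw₁]
          rfl
    · have hlt : (⟨_, hic _ (isClosed_closure (s := D))⟩ : Closeds ↥W.left) < T :=
        lt_of_le_of_ne (fun x ⟨y, _, hy⟩ => hrange.le ⟨y, hy⟩) fun e => hD fun y => by
          obtain ⟨y', hy', hyy⟩ := (congrArg (fun S : Closeds ↥W.left => (S : Set ↥W.left)) e).ge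
            (hrange.le ⟨y, rfl⟩)
          exact I.subschemeι.isClosedEmbedding.injective hyy ▸ hy'
      convert IH _ hlt using 1
      ext p
      constructor
      · rintro ⟨s, hs, hsT⟩
        obtain ⟨t, ht⟩ := hrange.ge hsT
        exact ⟨s, hs, t, subset_closure ⟨p, s, hs, ht.symm⟩, ht⟩
      · rintro ⟨s, hs, t, -, ht⟩
        exact ⟨s, hs, hrange.le ⟨t, ht⟩⟩

end Groth.Agent.DiagQC
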