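import Groth.Agent.AlgStLib.QC2
import Groth.Agent.AlgStLib.GerbeProps
import Groth.Agent.AlgStLib.AlgClosedLift
import Groth.Agent.AlgStLib.ValLift

/-!
# Pairs of objects and the points of their space of isomorphisms
-/

set_option autoImplicit false
set_option backward.isDefEq.respectTransparency false
set_option backward.isDefEq.respectTransparency.types false
universe u

noncomputable section

namespace Groth.Agent.DiagQC

open CategoryTheory CategoryTheory.Limits AlgebraicGeometry Opposite Groth.Agent.FibCatRep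
  Groth.Agent.FibCat2Misc Groth.Agent.AlgSpLib Groth.Agent.StkBasic Groth.Agent.AlgStLib
open _root_.AlgSp _root_.AlgSt

variable {S : Scheme.{u}} {𝒳 𝒲 : AlgSt.Cat S}

local notation "AS" => IsAlgStack Scheme.fppfPrecoverage
local notation "Δ" => FibCat.diag (FibCat.toSelf 𝒳)

/-- a pair of objects -/
def pairFun (x y : 𝒲 ⥤ᵇ 𝒳) : 𝒲 ⥤ᵇ FibCat.fp (FibCat.toSelf 𝒳) (FibCat.toSelf 𝒳) :=
  FibCat.fpLift x y (eqToIso ((comp_toSelf x).trans (comp_toSelf y).symm))

variable (h𝒳 : AS 𝒳)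

include h𝒳

theorem isAlgStack_prod : AS (FibCat.fp (FibCat.toSelf 𝒳) (FibCat.toSelf 𝒳)) :=
  algFp isAlgStack_self h𝒳 h𝒳 _ _

theorem isAlgStack_isom {U : Over S} (z : FibCat.overCat U ⥤ᵇ FibCat.fp (FibCat.toSelf 𝒳) (FibCat.toSelf 𝒳)) :
    AS (FibCat.fp z Δ) :=
  algFp (isAlgStack_prod h𝒳) (isAlgStack_overCat U) h𝒳 _ _

omit h𝒳 in
/-- functors between slices -/
theorem exists_overMap_iso {U V : Over S} (y : FibCat.overCat V ⥤ᵇ FibCat.overCat U) :
    ∃ γ : V ⟶ U, Nonempty (y ≅ AlgSt.overMap γ) := by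
  let o : (FibCat.overCat V).obj := Over.mk (𝟙 V)
  let γ : V ⟶ U := eqToHom (y.w_obj o).symm ≫ (y.obj o).hom
  exact ⟨γ, nonempty_iso_of_top (isFibGrpd_overCat U) y (AlgSt.overMap γ)
    (Over.homMk (eqToHom (y.w_obj o)) (by
      show eqToHom (y.w_obj o) ≫ 𝟙 V ≫ eqToHom (y.w_obj o).symm ≫ (y.obj o).hom = _
      erw [Category.id_comp, eqToHom_trans_assoc, eqToHom_refl, Category.id_comp])) rfl⟩

/-- points of a space of isomorphisms give isomorphisms over fields -/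
theorem exists_iso_of_point {U : Over S} (z : FibCat.overCat U ⥤ᵇ FibCat.fp (FibCat.toSelf 𝒳) (FibCat.toSelf 𝒳))
    (p : AlgSt.Points (FibCat.fp z Δ)) :
    ∃ (V : Over S) (γ : V ⟶ U) (r : ↥V.left),
      AlgSt.Points.map (FibCat.fpFst z Δ) p =
          AlgSt.Points.ofChart (BasedFunctor.id (FibCat.overCat U)) (γ.left r) ∧
        Nonempty (BasedFunctor.comp (AlgSt.overMap γ) (BasedFunctor.comp z (FibCat.fpFst _ _)) ≅
          BasedFunctor.comp (AlgSt.overMap γ) (BasedFunctor.comp z (FibCat.fpSnd _ _))) := by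
  obtain ⟨V, P, r, rfl⟩ := exists_ofChart (isAlgStack_isom h𝒳 z).isStack.1 p
  obtain ⟨γ, ⟨i⟩⟩ := exists_overMap_iso (BasedFunctor.comp P (FibCat.fpFst z Δ))
  refine ⟨V, γ, r, ?_, ⟨?_⟩⟩
  · rw [map_ofChart, ofChart_congr i, ← ofChart_overMap]
    rfl
  let j : BasedFunctor.comp (AlgSt.overMap γ) z ≅ BasedFunctor.comp (BasedFunctor.comp P (FibCat.fpSnd z Δ)) Δ :=
    (post _ z).mapIso i.symm ≪≫ (Stk.restr P _).mapIso (FibCat.fpIso z Δ)
  exact (post _ (FibCat.fpFst _ _)).mapIso j ≪≫ ((post _ (FibCat.fpSnd _ _)).mapIso j).symm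

/-- isomorphic pairs have quasi-compact spaces of isomorphisms if automorphism spaces are quasi-compact -/
theorem isQuasiCompact_isom_of_iso
    (hi : ∀ (U : Over S), IsAffine U.left → ∀ (x : FibCat.overCat U ⥤ᵇ 𝒳),
      ∃ (F : AlgSp.Space S) (e : AlgSt.ofSp F.obj ⥤ᵇ FibCat.fp (FibCat.fpLift x x (Iso.refl _)) Δ),
        FibCat.IsEquivOver e ∧
          AlgSp.IsQuasiCompactMor (AlgSt.spMapOfOver (BasedFunctor.comp e (FibCat.fpFst _ _))))
    {U : Over S} [IsAffine U.left] (z : FibCat.overCat U ⥤ᵇ FibCat.fp (FibCat.toSelf 𝒳) (FibCat.toSelf 𝒳))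
    (i : BasedFunctor.comp z (FibCat.fpFst _ _) ≅ BasedFunctor.comp z (FibCat.fpSnd _ _)) :
    AlgSt.IsQuasiCompact (FibCat.fp z Δ) := by
  obtain ⟨F, e, he, hq⟩ := hi U ‹_› (BasedFunctor.comp z (FibCat.fpFst _ _))
  refine isQuasiCompact_fp_congr (isAlgStack_prod h𝒳) (isAlgStack_overCat U) h𝒳 (GerbeMor.fpExtSelf
    (a := FibCat.fpLift (BasedFunctor.comp z (FibCat.fpFst _ _)) (BasedFunctor.comp z (FibCat.fpFst _ _)) (Iso.refl _))
    (b := z) (Iso.refl _) i) ?_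
  have sq : IsPullback (𝟙 F.obj) (spMapOfOver (BasedFunctor.comp e (FibCat.fpFst _ _)))
      (spMapOfOver (BasedFunctor.comp e (FibCat.fpFst _ _))) (𝟙 ((yon S).obj U)) :=
    IsPullback.of_horiz_isIso ⟨by simp⟩
  exact (isQuasiCompact_iff_of_equiv he (isAlgStack_ofSp F)).1
    ((isQuasiCompact_ofSp_iff F).2 (hq (IsAlgSpace.yon_obj U) (isQuasiCompactSp_yon U) _ _ _ sq))

/-- the map of spaces of isomorphisms under a change of base -/
theorem exists_points_of_restrict {U V : Over S} (c : V ⟶ U)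
    (z : FibCat.overCat U ⥤ᵇ FibCat.fp (FibCat.toSelf 𝒳) (FibCat.toSelf 𝒳)) :
    ∃ L : FibCat.fp (BasedFunctor.comp (AlgSt.overMap c) z) Δ ⥤ᵇ FibCat.fp z Δ,
      (∀ p, ∃ v, AlgSt.Points.map (FibCat.fpFst z Δ) (AlgSt.Points.map L p) =
        AlgSt.Points.ofChart (BasedFunctor.id (FibCat.overCat U)) (c.left v)) ∧
      ∀ p v, AlgSt.Points.map (FibCat.fpFst z Δ) p =
          AlgSt.Points.ofChart (BasedFunctor.id (FibCat.overCat U)) (c.left v) →
        p ∈ Set.range (AlgSt.Points.map L) := by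
  let c' := AlgSt.overMap c
  have hA := algFp (isAlgStack_overCat U) (isAlgStack_overCat V) (isAlgStack_isom h𝒳 z) c' (FibCat.fpFst z Δ)
  obtain ⟨k, hk, -, ⟨j⟩⟩ := isEquivOver_symm (isEquivOver_pasteFun c' z Δ)
  have key : ∀ v, AlgSt.Points.map c' (AlgSt.Points.ofChart (BasedFunctor.id (FibCat.overCat V)) v) =
      AlgSt.Points.ofChart (BasedFunctor.id (FibCat.overCat U)) (c.left v) := fun v => by
    rw [map_ofChart, ← ofChart_overMap]
    rfl
  refine ⟨BasedFunctor.comp k (FibCat.fpSnd c' (FibCat.fpFst z Δ)), fun p => ?_, fun p v hp => ?_⟩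
  · obtain ⟨v, hv⟩ := exists_ofChart_id
      (AlgSt.Points.map (FibCat.fpFst c' (FibCat.fpFst z Δ)) (AlgSt.Points.map k p))
    refine ⟨v, ?_⟩
    rw [← key, hv, ← map_comp_points, ← map_comp_points, ← map_comp_points]
    exact map_congr_points ((Stk.restr k _).mapIso (FibCat.fpIso c' (FibCat.fpFst z Δ)).symm) p
  · obtain ⟨w, -, hw⟩ := exists_points_fp (isAlgStack_isom h𝒳 z).isStack.1 (isFibGrpd_overCat U) (isFibGrpd_overCat V)
      (FibCat.fpFst z Δ) c' (AlgSt.Points.ofChart (BasedFunctor.id _) v) p ((key v).trans hp.symm)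
    obtain ⟨q, hq⟩ := (bijective_map_of_equiv hk).2 w
    exact ⟨q, by rw [map_comp_points, hq, hw]⟩

end Groth.Agent.DiagQC
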